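/-
Helper library (helper31): Bender–Glauberman Section 11, part a: general tools.
-/
import Cfsg.Agent.Lib.Helper31.BG11Defs
import Cfsg.Agent.Lib.Helper10.BG95c
import Cfsg.Agent.S1392
import Cfsg.Agent.S1394
import Cfsg.Agent.S1395
import Cfsg.Agent.S1396
import Cfsg.Agent.S0033

set_option autoImplicit false
set_option linter.unusedSimpArgs false
set_option linter.unusedVariables false
set_option linter.style.haveILetI false
set_option linter.unusedSectionVars false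

namespace Cfsg.Agent.Lib.Helper31.BG11

open Subgroup Cfsg
open Cfsg.Agent.Lib
open Cfsg.Agent.Lib.Helper24 Cfsg.Agent.Lib.Helper34

universe u

variable {G : Type u} [Group G]

/-! ### Thompson's theorem in ambient form -/

theorem nilpotent_of_fpf_elem [Finite G] {K : Subgroup G} {x : G} {p : ℕ} (hp : p.Prime)
    (hxK : x ∈ normalizer (K : Set G)) (hxp : x ^ p = 1)
    (hfpf : K ⊓ centralizer ({x} : Set G) = ⊥) : Group.IsNilpotent K := by
  by_cases hK : K = ⊥
  · subst hK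
    infer_instance
  have hc : ∀ (y : G), y ∈ normalizer (K : Set G) → ∀ q ∈ K, y * q * y⁻¹ ∈ K := by
    intro y hy q hq
    exact (mem_normalizer_iff.mp hy q).mp hq
  let φ : K ≃* K :=
    { toFun := fun q => ⟨x * q * x⁻¹, hc x hxK q q.2⟩
      invFun := fun q => ⟨x⁻¹ * q * x, by
        have := hc x⁻¹ (inv_mem hxK) q q.2
        simpa using this⟩
      left_inv := fun q => Subtype.ext (by simp [mul_assoc])
      right_inv := fun q => Subtype.ext (by simp [mul_assoc])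
      map_mul' := fun q r => Subtype.ext (by simp [mul_assoc]) }
  have hφ : ∀ q : K, ((φ q : K) : G) = x * q * x⁻¹ := fun q => rfl
  have hφpow : ∀ (n : ℕ) (q : K), (((φ ^ n) q : K) : G) = x ^ n * q * (x ^ n)⁻¹ := by
    intro n
    induction n with
    | zero => intro q; simp
    | succ n ih =>
      intro q
      rw [pow_succ', MulAut.mul_apply, hφ, ih, pow_succ']
      simp [mul_assoc]
  have hfix : MonoidHom.FixedPointFree (φ : K →* K) := by
    intro q hq
    have h1 : x * (q : G) * x⁻¹ = q := by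
      have := congrArg Subtype.val hq
      exact this
    have h2 : (q : G) ∈ K ⊓ centralizer {x} := by
      refine mem_inf.mpr ⟨q.2, ?_⟩
      rw [mem_centralizer_iff]
      intro z hz
      rw [Set.mem_singleton_iff] at hz
      rw [hz]
      calc x * (q : G) = (x * q * x⁻¹) * x := by group
        _ = q * x := by rw [h1]
    rw [hfpf, mem_bot] at h2
    exact Subtype.ext h2
  have hφ1 : φ ≠ 1 := by
    intro h
    apply hK
    rw [eq_bot_iff]
    intro k hk
    have := hfix ⟨k, hk⟩ (by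
      show φ ⟨k, hk⟩ = ⟨k, hk⟩
      rw [h]; rfl)
    exact congrArg Subtype.val this
  have hφp : φ ^ p = 1 := by
    ext q
    rw [hφpow, hxp]
    simp
  have : Fact p.Prime := ⟨hp⟩
  exact Cfsg.Agent.S0033.result φ hfix p hp (orderOf_eq_prime hφp hφ1)

/-- a subgroup of prime order is generated by any of its nonidentity elements -/
theorem eq_zpowers_of_card_prime {X : Subgroup G} {p : ℕ} (hp : p.Prime) (hX : Nat.card X = p)
    {x : G} (hx : x ∈ X) (hx1 : x ≠ 1) : X = zpowers x := by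
  haveI : Fact p.Prime := ⟨hp⟩
  have h := zpowers_eq_top_of_prime_card (G := X) (p := p) hX (g := ⟨x, hx⟩)
    (fun h => hx1 (congrArg Subtype.val h))
  apply le_antisymm
  · intro y hy
    have : (⟨y, hy⟩ : X) ∈ zpowers (⟨x, hx⟩ : X) := by rw [h]; trivial
    obtain ⟨k, hk⟩ := mem_zpowers_iff.mp this
    exact mem_zpowers_iff.mpr ⟨k, by simpa using congrArg Subtype.val hk⟩
  · exact zpowers_le.mpr hx

theorem exists_ne_one_of_card_prime {X : Subgroup G} {p : ℕ} (hp : p.Prime) (hX : Nat.card X = p) :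
    ∃ x ∈ X, x ≠ 1 := by
  by_contra hcon
  push Not at hcon
  have : X = ⊥ := (eq_bot_iff_forall _).mpr hcon
  rw [this, card_bot] at hX
  exact hp.one_lt.ne hX

theorem centralizer_eq_of_card_prime {X : Subgroup G} {p : ℕ} (hp : p.Prime) (hX : Nat.card X = p)
    {x : G} (hx : x ∈ X) (hx1 : x ≠ 1) : centralizer (X : Set G) = centralizer {x} := by
  rw [eq_zpowers_of_card_prime hp hX hx hx1, Helper22.centralizer_zpowers]

theorem nilpotent_of_fpf [Finite G] {K X : Subgroup G} {p : ℕ} (hp : p.Prime)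
    (hX : Nat.card X = p) (hXK : X ≤ normalizer (K : Set G))
    (hfpf : K ⊓ centralizer (X : Set G) = ⊥) : Group.IsNilpotent K := by
  obtain ⟨x, hx, hx1⟩ := exists_ne_one_of_card_prime hp hX
  rw [centralizer_eq_of_card_prime hp hX hx hx1] at hfpf
  refine nilpotent_of_fpf_elem hp (hXK hx) ?_ hfpf
  have := pow_card_eq_one' (G := X) (x := ⟨x, hx⟩)
  rw [hX] at this
  exact congrArg Subtype.val this

/-! ### Elementary abelian subgroups of order `p ^ 2` that are maximal -/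

theorem elemAb_sup_zpowers {p : ℕ} {A : Subgroup G} (hA : IsElementaryAbelian p A) {x : G}
    (hx : x ∈ centralizer (A : Set G)) (hxp : x ^ p = 1) :
    IsElementaryAbelian p (A ⊔ zpowers x) := by
  have hAc : A ≤ centralizer (A : Set G) := le_centralizer_iff_isMulCommutative.mpr hA.1
  have hxx : zpowers x ≤ centralizer (A : Set G) := zpowers_le.mpr hx
  have h1 : A ≤ centralizer ((A ⊔ zpowers x : Subgroup G) : Set G) := by
    rw [le_centralizer_iff, sup_le_iff]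
    exact ⟨hAc, hxx⟩
  have h2 : zpowers x ≤ centralizer ((A ⊔ zpowers x : Subgroup G) : Set G) := by
    rw [le_centralizer_iff, sup_le_iff]
    refine ⟨le_centralizer_iff.mp hxx, ?_⟩
    rw [Helper22.centralizer_zpowers, zpowers_le, mem_centralizer_singleton_iff]
  have hc : IsMulCommutative (A ⊔ zpowers x : Subgroup G) :=
    le_centralizer_iff_isMulCommutative.mp (sup_le h1 h2)
  refine ⟨hc, ?_⟩
  intro b hb
  have hcomm : ∀ a ∈ (A ⊔ zpowers x : Subgroup G), ∀ b ∈ (A ⊔ zpowers x : Subgroup G),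
      a * b = b * a := fun a ha b hb => setLike_mul_comm ha hb
  rw [sup_eq_closure] at hb hcomm
  induction hb using closure_induction with
  | mem y hy =>
    rcases hy with hy | hy
    · exact hA.2 y hy
    · obtain ⟨k, rfl⟩ := mem_zpowers_iff.mp hy
      rw [← zpow_natCast, ← zpow_mul, mul_comm, zpow_mul, zpow_natCast, hxp, one_zpow]
  | one => simp
  | mul y z hy hz ihy ihz =>
    rw [(show Commute y z from hcomm y hy z hz).mul_pow, ihy, ihz, one_mul]
  | inv y hy ih => rw [inv_pow, ih, inv_one]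

/-- `A ∈ E²_p(G) ∩ E*_p(G)`. -/
structure E2 (p : ℕ) (A : Subgroup G) : Prop where
  elem : IsElementaryAbelian p A
  card : Nat.card A = p ^ 2
  max : ∀ B : Subgroup G, IsElementaryAbelian p B → A ≤ B → B = A

namespace E2

variable {p : ℕ} {A : Subgroup G}

theorem pg (h : E2 p A) : IsPGroup p A := isPGroup_of_exponent h.elem.2

theorem comm (h : E2 p A) : A ≤ centralizer (A : Set G) :=
  le_centralizer_iff_isMulCommutative.mpr h.elem.1

theorem omega (h : E2 p A) {x : G} (hx : x ∈ centralizer (A : Set G)) : x ^ p = 1 ↔ x ∈ A := by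
  constructor
  · intro hxp
    have := h.max _ (elemAb_sup_zpowers h.elem hx hxp) le_sup_left
    rw [← this]
    exact mem_sup_right (mem_zpowers x)
  · exact h.elem.2 x

theorem ne_bot [hp : Fact p.Prime] (h : E2 p A) : A ≠ ⊥ := by
  intro hb
  have := h.card
  rw [hb, card_bot] at this
  have := hp.out.one_lt
  nlinarith [pow_le_pow_left₀ (Nat.zero_le _) this.le 2]

theorem trans [Finite G] [hp : Fact p.Prime] (h : E2 p A) (hG : IsMinSimpleOddOrder G)
    (hPL : PL1 G) : TransitivityHypothesis A := by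
  have hd : p ∣ Nat.card G :=
    (Dvd.intro_left p (by rw [h.card]; ring)).trans (card_subgroup_dvd_card A)
  exact Cfsg.Agent.S1396.result hG p hd A h.pg h.elem.1
    (Or.inl ⟨fun x hx => h.omega hx, fun H hH => hPL p H hH⟩)

theorem cj (h : E2 p A) (g : G) : E2 p (cj g A) := by
  have key : ∀ (g : G) (B : Subgroup G), IsElementaryAbelian p B →
      IsElementaryAbelian p (Helper24.cj g B) := by
    intro g B hB
    refine ⟨?_, ?_⟩
    · haveI := hB.1
      exact Subgroup.map_isMulCommutative B _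
    · rintro _ ⟨b, hb, rfl⟩
      rw [← map_pow, hB.2 b hb, map_one]
  refine ⟨key g A h.elem, by rw [card_map_conj]; exact h.card, ?_⟩
  intro B hB hAB
  have h1 : A ≤ Helper24.cj g⁻¹ B := by
    have := cj_mono g⁻¹ hAB
    rwa [cj_inv_cj] at this
  have h2 := h.max _ (key g⁻¹ B hB) h1
  rw [← h2, cj_cj_inv]

end E2

/-! ### The `σ`-core -/

section sc

variable [Finite G]

theorem le_of_normal_of_not_dvd {q : ℕ} [hq : Fact q.Prime] {N L U : Subgroup G} (hNL : N ≤ L)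
    (hn : L ≤ normalizer (N : Set G)) (hqi : ¬ q ∣ N.relIndex L) (hUL : U ≤ L)
    (hU : IsPGroup q U) : U ≤ N := by
  obtain ⟨Q, hQ, -⟩ := exists_isSylowIn_ge (bot_le : (⊥ : Subgroup G) ≤ N) (IsPGroup.of_bot (p := q))
  have hQL : IsSylowIn q Q L := ⟨hQ.1.trans hNL, hQ.2.1, by
    rw [← relIndex_mul_relIndex Q N L hQ.1 hNL]
    exact hq.out.not_dvd_mul hQ.2.2 hqi⟩
  obtain ⟨m, hm, hle⟩ := hQL.exists_conj_le hUL hU
  intro u hu
  have h1 : m * u * m⁻¹ ∈ N := hQ.1 (hle (conj_mem_map_conj hu))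
  have h2 := (mem_normalizer_iff.mp (hn (inv_mem hm)) _).mp h1
  simpa [mul_assoc] using h2

theorem isSylowIn_of_normal_hall {q : ℕ} [hq : Fact q.Prime] {N L Q : Subgroup G} (hNL : N ≤ L)
    (hqi : ¬ q ∣ N.relIndex L) (hQ : IsSylowIn q Q N) : IsSylowIn q Q L :=
  ⟨hQ.1.trans hNL, hQ.2.1, by
    rw [← relIndex_mul_relIndex Q N L hQ.1 hNL]
    exact hq.out.not_dvd_mul hQ.2.2 hqi⟩

theorem sc_le (M : Subgroup G) : sigmaCore M ≤ M := Helper23.piCoreOf_le _ _

theorem sc_norm (M : Subgroup G) : M ≤ normalizer (sigmaCore M : Set G) :=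
  Helper23.le_normalizer_piCoreOf _ _

theorem sc_primes (M : Subgroup G) {q : ℕ} (hq : q.Prime) (hd : q ∣ Nat.card (sigmaCore M)) :
    q ∈ sigma M := Helper23.piCoreOf_primes _ _ q hq hd

theorem sc_hall (hG : IsMinSimpleOddOrder G) (hU : UT G) {M : Subgroup G} (hM : IsCoatom M) :
    IsPiHallOf (sigma M) (sigmaCore M) M :=
  (piCoreOf_hall hG hU hM (sigma M) (fun _ h => alpha_subset_sigma hG hU hM h) subset_rfl).1

theorem le_sc (hG : IsMinSimpleOddOrder G) (hU : UT G) {M : Subgroup G} (hM : IsCoatom M)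
    {q : ℕ} [hq : Fact q.Prime] (hqs : q ∈ sigma M) {U : Subgroup G} (hUM : U ≤ M)
    (hUq : IsPGroup q U) : U ≤ sigmaCore M :=
  le_of_normal_of_not_dvd (sc_le M) (sc_norm M) ((sc_hall hG hU hM).2.2 q hq.out hqs) hUM hUq

theorem sc_sylow (hG : IsMinSimpleOddOrder G) (hU : UT G) {M : Subgroup G} (hM : IsCoatom M)
    {q : ℕ} [hq : Fact q.Prime] (hqs : q ∈ sigma M) {Q : Subgroup G}
    (hQ : IsSylowIn q Q (sigmaCore M)) : IsSylowIn q Q M :=
  isSylowIn_of_normal_hall (sc_le M) ((sc_hall hG hU hM).2.2 q hq.out hqs) hQ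

theorem sigma_cj_iff {M : Subgroup G} {q : ℕ} (g : G) : q ∈ sigma (cj g M) ↔ q ∈ sigma M := by
  constructor
  · intro h
    haveI : Fact q.Prime := ⟨h.1⟩
    have := sigma_cj h g⁻¹
    rwa [cj_inv_cj] at this
  · intro h
    haveI : Fact q.Prime := ⟨h.1⟩
    exact sigma_cj h g

theorem cj_sc_le (M : Subgroup G) (g : G) : cj g (sigmaCore M) ≤ sigmaCore (cj g M) := by
  apply Helper23.le_piCoreOf _ (cj_mono g (sc_le M))
  · rw [normalizer_map_conj]
    exact cj_mono g (sc_norm M)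
  · intro q hq hd
    rw [card_map_conj] at hd
    exact (sigma_cj_iff g).mpr (sc_primes M hq hd)

theorem sc_cj (M : Subgroup G) (g : G) : sigmaCore (cj g M) = cj g (sigmaCore M) := by
  apply le_antisymm _ (cj_sc_le M g)
  have := cj_sc_le (cj g M) g⁻¹
  rw [cj_inv_cj] at this
  have h2 := cj_mono g this
  rwa [cj_cj_inv] at h2

/-- `q ∈ σ(M)`, `Q` a Sylow `q`-subgroup of `M` contained in `M^g`: then `g ∈ M`. -/
theorem mem_of_sigma_sylow_le {M : Subgroup G} {q : ℕ} [hq : Fact q.Prime] (hqs : q ∈ sigma M)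
    {Q : Subgroup G} (hQ : IsSylowIn q Q M) {g : G} (hg : Q ≤ cj g M) : g ∈ M := by
  have h1 : cj g⁻¹ Q ≤ M := le_cj_iff.mp hg
  have h2 : IsSylowIn q (cj g⁻¹ Q) M := isSylowIn_of_card h1 (by rw [card_map_conj, hQ.card_eq])
  obtain ⟨m, hm, hmQ⟩ := isSylowIn_exists_cj_eq hQ h2
  rw [cj_cj] at hmQ
  have h3 : m * g⁻¹ ∈ M := sigma_normalizer_le hqs hQ (mem_normalizer_of_map_conj_eq hmQ)
  have : g = (m * g⁻¹)⁻¹ * m := by group
  rw [this]
  exact mul_mem (inv_mem h3) hm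

theorem maxInvQ_of_sylow_top {A Q : Subgroup G} {q : ℕ} [Fact q.Prime] (hQ : IsSylowIn q Q ⊤)
    (hA : A ≤ normalizer (Q : Set G)) : Helper23.MaxInvQ A q Q :=
  ⟨⟨hQ.2.1, hA⟩, fun R hR hQR => (hQ.eq_of_le le_top hR.1 hQR).symm⟩

theorem isSylowIn_of22 {q : ℕ} [Fact q.Prime] {Q K : Subgroup G} (h : Helper22.IsSylowIn q Q K) :
    IsSylowIn q Q K := ⟨h.le, h.isPGroup, h.not_dvd_relIndex⟩

theorem isSylowIn_to22 {q : ℕ} [Fact q.Prime] {Q K : Subgroup G} (h : IsSylowIn q Q K) :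
    Helper22.IsSylowIn q Q K := Helper22.isSylowIn_of_not_dvd_relIndex h.2.1 h.1 h.2.2

theorem exists_inv_sylow {p : ℕ} [Fact p.Prime] {A K : Subgroup G}
    (hA : IsPGroup p A) (hK : ¬ p ∣ Nat.card K) (hAK : A ≤ normalizer (K : Set G))
    (q : ℕ) [Fact q.Prime] : ∃ Q, IsSylowIn q Q K ∧ A ≤ normalizer (Q : Set G) := by
  obtain ⟨Q, hQ, hAQ⟩ := Helper22.exists_invariant_isSylowIn A K hA hK hAK q
  exact ⟨Q, isSylowIn_of22 hQ, hAQ⟩

theorem exists_inv_sylow_ge {p : ℕ} [Fact p.Prime] {A K : Subgroup G}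
    (hA : IsPGroup p A) (hK : ¬ p ∣ Nat.card K) (hAK : A ≤ normalizer (K : Set G))
    (q : ℕ) [Fact q.Prime] {U : Subgroup G} (hU : IsPGroup q U) (hUK : U ≤ K)
    (hAU : A ≤ normalizer (U : Set G)) :
    ∃ Q, IsSylowIn q Q K ∧ A ≤ normalizer (Q : Set G) ∧ U ≤ Q := by
  obtain ⟨Q, hQ, hAQ, hUQ⟩ := Helper22.exists_invariant_isSylowIn_ge A K hA hK hAK q U hU hUK hAU
  exact ⟨Q, isSylowIn_of22 hQ, hAQ, hUQ⟩

end sc

/-! ### Exceptional maximal subgroups: 11.1 - 11.3 -/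

namespace Exc

variable [Finite G] {M A A₀ : Subgroup G} {p : ℕ} [hp : Fact p.Prime]

theorem e2 (h : Exc M p A A₀) (hG : IsMinSimpleOddOrder G) (hU : UT G) : E2 p A :=
  ⟨h.elem, h.card, fun _ hB hAB => sigma'_rank2_max hG hU h.coatom h.notSigma h.AM h.elem h.card hB hAB⟩

theorem cent₀_le (h : Exc M p A A₀) : centralizer (A₀ : Set G) ≤ M :=
  (centralizer_le_normalizer _).trans h.norm

theorem cent_le (h : Exc M p A A₀) : centralizer (A : Set G) ≤ M :=
  (centralizer_le (by exact_mod_cast h.A₀A)).trans h.cent₀_le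

theorem ne_of_sigma (h : Exc M p A A₀) {q : ℕ} (hq : q ∈ sigma M) : q ≠ p := by
  rintro rfl
  exact h.notSigma hq

theorem not_dvd_card (h : Exc M p A A₀) {q : ℕ} (hq : q ∈ sigma M) : ¬ q ∣ Nat.card A := by
  rw [h.card]
  intro hd
  exact h.ne_of_sigma hq ((Nat.prime_dvd_prime_iff_eq hq.1 hp.out).mp (hq.1.dvd_of_dvd_pow hd))

/-- **BG 11.1**. -/
theorem no_common (h : Exc M p A A₀) (hG : IsMinSimpleOddOrder G) (hU : UT G) (hPL : PL1 G)
    {g : G} (hg : g ∉ M) {q : ℕ} (hq : q ∈ sigma M) {Q₁ Q₂ H : Subgroup G}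
    (hQ₁ : IsSylowIn q Q₁ M) (hQ₂ : IsSylowIn q Q₂ (cj g M))
    (hA₁ : A ≤ normalizer (Q₁ : Set G)) (hA₂ : A ≤ normalizer (Q₂ : Set G))
    (hH : H ≠ ⊤) (hAH : A ≤ H) (h₁ : H ⊓ Q₁ ≠ ⊥) (h₂ : H ⊓ Q₂ ≠ ⊥) : False := by
  haveI : Fact q.Prime := ⟨hq.1⟩
  have hT := (h.e2 hG hU).trans hG hPL
  have m₁ := maxInvQ_of_sylow_top (sigma_isSylowIn_top hq hQ₁) hA₁
  have m₂ := maxInvQ_of_sylow_top (sigma_isSylowIn_top (sigma_cj hq g) hQ₂) hA₂
  obtain ⟨k, hk, hkQ⟩ := Helper23.TransHyp.conj_of_common_overgroup hG hT q (h.not_dvd_card hq)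
    Q₁ Q₂ m₁ m₂ H hH hAH h₁ h₂
  have hkM : k ∈ M := h.cent_le (Helper23.piCoreOf_le _ _ hk)
  have h3 : IsSylowIn q Q₂ M := by
    have := hQ₁.map_conj k
    rw [map_conj_eq_self_of_mem hkM] at this
    rw [← hkQ]
    exact this
  exact hg (mem_of_sigma_sylow_le hq h3 hQ₂.1)

theorem pg (h : Exc M p A A₀) : IsPGroup p A := isPGroup_of_exponent h.elem.2

theorem not_dvd_sc (h : Exc M p A A₀) : ¬ p ∣ Nat.card (sigmaCore M) :=
  fun hd => h.notSigma (sc_primes M hp.out hd)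

theorem A_norm_sc (h : Exc M p A A₀) : A ≤ normalizer (sigmaCore M : Set G) :=
  h.AM.trans (sc_norm M)

/-- **BG 11.2**. -/
theorem ti (h : Exc M p A A₀) (hG : IsMinSimpleOddOrder G) (hU : UT G) (hPL : PL1 G)
    {g : G} (hg : g ∉ M) (hAg : A ≤ cj g M) : sigmaCore M ⊓ cj g M = ⊥ := by
  by_contra hD
  set D := sigmaCore M ⊓ cj g M with hDdef
  have hAD : A ≤ normalizer (D : Set G) :=
    Helper22.le_normalizer_inf h.A_norm_sc (hAg.trans le_normalizer)
  have hpD : ¬ p ∣ Nat.card D := Helper22.not_dvd_card_of_le inf_le_left h.not_dvd_sc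
  have hcard : Nat.card D ≠ 1 := fun h1 => hD (card_eq_one.mp h1)
  obtain ⟨q, hq, hqd⟩ := Nat.exists_prime_and_dvd hcard
  haveI : Fact q.Prime := ⟨hq⟩
  have hqs : q ∈ sigma M := sc_primes M hq (hqd.trans (card_dvd_of_le inf_le_left))
  obtain ⟨Dq, hDq, hADq⟩ := exists_inv_sylow h.pg hpD hAD q
  have hDq1 : Dq ≠ ⊥ := sylow_ne_bot_of_dvd hDq hqd
  obtain ⟨Q₁, hQ₁, hAQ₁, hle₁⟩ := exists_inv_sylow_ge h.pg h.not_dvd_sc h.A_norm_sc q hDq.2.1
    (hDq.1.trans inf_le_left) hADq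
  have hMg := isCoatom_cj h.coatom g
  have hqs' : q ∈ sigma (cj g M) := sigma_cj hqs g
  have hp' : ¬ p ∣ Nat.card (sigmaCore (cj g M)) := by
    rw [sc_cj, card_map_conj]
    exact h.not_dvd_sc
  obtain ⟨Q₂, hQ₂, hAQ₂, hle₂⟩ := exists_inv_sylow_ge h.pg hp' (hAg.trans (sc_norm _)) q hDq.2.1
    (le_sc hG hU hMg hqs' (hDq.1.trans inf_le_right) hDq.2.1) hADq
  have hne : ∀ {Q : Subgroup G}, Dq ≤ Q → M ⊓ Q ≠ ⊥ := by
    intro Q hQ hb
    apply hDq1
    rw [eq_bot_iff, ← hb]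
    exact le_inf (hDq.1.trans (inf_le_left.trans (sc_le M))) hQ
  exact h.no_common hG hU hPL hg hqs (sc_sylow hG hU h.coatom hqs hQ₁) (sc_sylow hG hU hMg hqs' hQ₂)
    hAQ₁ hAQ₂ h.coatom.1 h.AM (hne hle₁) (hne hle₂)

theorem fpf_cj (h : Exc M p A A₀) (hG : IsMinSimpleOddOrder G) (hU : UT G) (hPL : PL1 G)
    {g : G} (hg : g ∉ M) (hAg : A ≤ cj g M) :
    sigmaCore M ⊓ centralizer (cj g A₀ : Set G) = ⊥ := by
  rw [eq_bot_iff, ← h.ti hG hU hPL hg hAg]
  refine le_inf inf_le_left (inf_le_right.trans ?_)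
  rw [centralizer_map_conj]
  exact cj_mono g h.cent₀_le

theorem p_dvd (h : Exc M p A A₀) : p ∣ Nat.card M :=
  (Dvd.intro_left p (by rw [h.card]; ring)).trans (card_dvd_of_le h.AM)

theorem exists_norm_not_mem (h : Exc M p A A₀) {P : Subgroup G} (hP : IsSylowIn p P M) :
    ∃ g ∈ normalizer (P : Set G), g ∉ M := by
  by_contra hcon
  push Not at hcon
  exact h.notSigma (mem_sigma_iff.mpr ⟨h.p_dvd, P, hP, hcon⟩)

/-- **BG 11.3**. -/
theorem nilpotent (h : Exc M p A A₀) (hG : IsMinSimpleOddOrder G) (hU : UT G) (hPL : PL1 G) :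
    Group.IsNilpotent (sigmaCore M) := by
  obtain ⟨P, hP, hAP⟩ := exists_isSylowIn_ge h.AM h.pg
  obtain ⟨g, hgP, hgM⟩ := h.exists_norm_not_mem hP
  have hPg : cj g P = P := map_conj_eq_self_of_mem_normalizer hgP
  have hAg : A ≤ cj g M := by
    calc A ≤ P := hAP
      _ = cj g P := hPg.symm
      _ ≤ cj g M := cj_mono g hP.1
  refine nilpotent_of_fpf hp.out (X := cj g A₀) (by rw [card_map_conj]; exact h.card₀) ?_
    (h.fpf_cj hG hU hPL hgM hAg)
  calc cj g A₀ ≤ cj g P := cj_mono g (h.A₀A.trans hAP)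
    _ = P := hPg
    _ ≤ M := hP.1
    _ ≤ _ := sc_norm M

end Exc

end Cfsg.Agent.Lib.Helper31.BG11
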