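/-
Helper library (helper31): Bender–Glauberman Section 11, part b: `sigma_disjoint`, consequences of 11.5,
tools for item (e).
-/
import Cfsg.Agent.Lib.Helper31.BG11a
import Cfsg.Agent.Lib.Helper31.BG11Ifc
import Cfsg.Agent.Lib.Helper68.BG121
import Cfsg.Agent.S1415
import Cfsg.Agent.S0005

set_option autoImplicit false
set_option linter.unusedSimpArgs false
set_option linter.unusedVariables false
set_option linter.style.haveILetI false
set_option linter.unusedSectionVars false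

namespace Cfsg.Agent.Lib.Helper31.BG11

open Subgroup Cfsg
open Cfsg.Agent.Lib
open Cfsg.Agent.Lib.Helper24 Cfsg.Agent.Lib.Helper34

universe u

variable {G : Type u} [Group G] [Finite G]

/-! ### Tools -/

theorem IsSylowIn.coprime {q : ℕ} [hq : Fact q.Prime] {Q K : Subgroup G} (hQ : IsSylowIn q Q K) :
    (Nat.card Q).Coprime (Q.relIndex K) := by
  obtain ⟨k, hk⟩ := IsPGroup.iff_card.mp hQ.2.1
  rw [hk]
  exact Nat.Coprime.pow_left k ((Nat.Prime.coprime_iff_not_dvd hq.out).2 hQ.2.2)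

/-- Sylow subgroups of a nilpotent subgroup are normalized by its normalizer. -/
theorem normalizer_le_of_sylow_nilpotent {q : ℕ} [Fact q.Prime] {Q K : Subgroup G}
    (hK : Group.IsNilpotent K) (hQ : IsSylowIn q Q K) :
    normalizer (K : Set G) ≤ normalizer (Q : Set G) :=
  Helper68.BG121.normalizer_le_normalizer_of_hall_nilpotent hQ.1 hK (IsSylowIn.coprime hQ)

theorem eq_of_coatom_le {M L : Subgroup G} (hM : IsCoatom M) (hL : L ≠ ⊤) (h : M ≤ L) : L = M := by
  rcases hM.le_iff.mp h with h1 | h1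
  · exact absurd h1 hL
  · exact h1

/-- **sigma_disjoint** (nilpotent case). -/
theorem sigma_disjoint (hG : IsMinSimpleOddOrder G) (hU : UT G) {M L : Subgroup G}
    (hM : IsCoatom M) (hL : IsCoatom L) (hnil : Group.IsNilpotent (sigmaCore M)) {q : ℕ}
    (hqM : q ∈ sigma M) (hqL : q ∈ sigma L) : ∃ x, L = cj x M := by
  haveI : Fact q.Prime := ⟨hqM.1⟩
  obtain ⟨Q, hQ, -⟩ := exists_isSylowIn_ge (bot_le : (⊥ : Subgroup G) ≤ sigmaCore M)
    (IsPGroup.of_bot (p := q))
  have hQM := sc_sylow hG hU hM hqM hQ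
  have hMQ : M ≤ normalizer (Q : Set G) := (sc_norm M).trans (normalizer_le_of_sylow_nilpotent hnil hQ)
  obtain ⟨Q', hQ', -⟩ := exists_isSylowIn_ge (bot_le : (⊥ : Subgroup G) ≤ L) (IsPGroup.of_bot (p := q))
  obtain ⟨x, -, hx⟩ := isSylowIn_exists_cj_eq (sigma_isSylowIn_top hqL hQ') (sigma_isSylowIn_top hqM hQM)
  refine ⟨x, eq_of_coatom_le (isCoatom_cj hM x) hL.1 ?_⟩
  calc cj x M ≤ cj x (normalizer (Q : Set G)) := cj_mono x hMQ
    _ = normalizer (cj x Q : Set G) := (normalizer_map_conj x Q).symm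
    _ = normalizer (Q' : Set G) := by rw [hx]
    _ ≤ L := sigma_normalizer_le hqL hQ'

/-- a complement of `L_σ` in `L` containing a given `σ(L)'`-subgroup. -/
theorem exists_compl_ge (hG : IsMinSimpleOddOrder G) (hU : UT G) {L : Subgroup G} (hL : IsCoatom L)
    {B : Subgroup G} (hBL : B ≤ L) (hB : (Nat.card B).Coprime (Nat.card (sigmaCore L))) :
    ∃ E, IsComplIn E (sigmaCore L) L ∧ B ≤ E := by
  haveI : Group.IsSolvable L := MS_solvable hG hL.1
  have hcard : Nat.card L = (sigmaCore L).relIndex L * Nat.card (sigmaCore L) := by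
    rw [mul_comm]
    exact (Helper23.card_mul_relIndex (sc_le L)).symm
  have hcop : ((sigmaCore L).relIndex L).Coprime (Nat.card (sigmaCore L)) := by
    apply Nat.Coprime.symm
    apply Nat.coprime_of_dvd
    intro k hk h1 h2
    exact (sc_hall hG hU hL).2.2 k hk (sc_primes L hk h1) h2
  obtain ⟨H, hH, hBH⟩ := Cfsg.Agent.S0005.result _ _ hcard hcop (B.subgroupOf L)
    (by rw [Nat.card_congr (subgroupOfEquivOfLe hBL).toEquiv]; exact hB)
  have hS : Nat.card ((sigmaCore L).subgroupOf L) = Nat.card (sigmaCore L) :=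
    Nat.card_congr (subgroupOfEquivOfLe (sc_le L)).toEquiv
  have hc : IsComplement' H ((sigmaCore L).subgroupOf L) :=
    isComplement'_of_coprime (by rw [hH, hS, hcard]) (by rw [hH, hS]; exact hcop)
  refine ⟨H.map L.subtype, ⟨map_subtype_le _, sc_le L, ?_, ?_⟩, ?_⟩
  · apply Disjoint.eq_bot
    apply disjoint_of_coprime_natCard
    rw [card_map_of_injective L.subtype_injective, hH]
    exact hcop
  · intro m hm
    obtain ⟨⟨⟨a, ha⟩, ⟨b, hb⟩⟩, hab⟩ := hc.2 ⟨m, hm⟩
    refine ⟨a, ⟨a, ha, rfl⟩, b, hb, ?_⟩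
    exact (congrArg Subtype.val hab).symm
  · intro b hb
    exact ⟨⟨b, hBL hb⟩, hBH hb, rfl⟩

theorem mem_of_sq_mem (hG : IsMinSimpleOddOrder G) {M : Subgroup G} {k : G} (h : k * k ∈ M) :
    k ∈ M := by
  have hodd : Odd (orderOf k) := by
    have h1 : Odd (Nat.card (⊤ : Subgroup G)) := MS_odd hG ⊤
    rw [card_top] at h1
    exact Odd.of_dvd_nat h1 (orderOf_dvd_natCard k)
  obtain ⟨m, hm⟩ := hodd
  have h2 : k = (k * k) ^ (m + 1) := by
    rw [← pow_two, ← pow_mul]
    have : 2 * (m + 1) = orderOf k + 1 := by omega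
    rw [this, pow_succ, pow_orderOf_eq_one, one_mul]
  rw [h2]
  exact pow_mem h _

/-- Subgroups normalizing each other with trivial intersection commute. -/
theorem le_centralizer_of_normalize {S D : Subgroup G} (h1 : S ≤ normalizer (D : Set G))
    (h2 : D ≤ normalizer (S : Set G)) (h3 : S ⊓ D = ⊥) : S ≤ centralizer (D : Set G) := by
  intro s hs
  rw [mem_centralizer_iff]
  intro d hd
  have h4 : s * d * s⁻¹ * d⁻¹ ∈ S ⊓ D := by
    refine mem_inf.mpr ⟨?_, ?_⟩
    · have : d * s⁻¹ * d⁻¹ ∈ S := (mem_normalizer_iff.mp (h2 hd) _).mp (inv_mem hs)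
      have h5 := mul_mem hs this
      simpa [mul_assoc] using h5
    · exact mul_mem ((mem_normalizer_iff.mp (h1 hs) _).mp hd) (inv_mem hd)
  rw [h3, mem_bot] at h4
  calc d * s = (s * d * s⁻¹ * d⁻¹)⁻¹ * (s * d) := by group
    _ = s * d := by rw [h4]; simp

/-! ### Consequences of 11.5 -/

namespace Exc

variable {M A A₀ : Subgroup G} {p : ℕ} [hp : Fact p.Prime]

theorem sylow_comm (h : Exc M p A A₀) (hAb : ExcAbel G) {P : Subgroup G} (hP : IsSylowIn p P M) :
    IsMulCommutative P := by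
  have h1 := hAb M p A A₀ h hP.toSylow
  rw [hP.coe_toSylow] at h1
  have h2 : (P.subgroupOf M).map M.subtype = P := by
    rw [subgroupOf_map_subtype, inf_eq_left.2 hP.1]
  rw [← h2]
  exact Subgroup.map_isMulCommutative _ _

theorem mem_iff_of_sylow (h : Exc M p A A₀) (hG : IsMinSimpleOddOrder G) (hU : UT G)
    (hAb : ExcAbel G) {P : Subgroup G} (hP : IsSylowIn p P M) (hAP : A ≤ P) {x : G} (hx : x ∈ P) :
    x ^ p = 1 ↔ x ∈ A :=
  (h.e2 hG hU).omega (le_centralizer_of_comm (h.sylow_comm hAb hP) hAP hx)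

theorem normalizer_sylow_le (h : Exc M p A A₀) (hG : IsMinSimpleOddOrder G) (hU : UT G)
    (hAb : ExcAbel G) {P : Subgroup G} (hP : IsSylowIn p P M) (hAP : A ≤ P) :
    normalizer (P : Set G) ≤ normalizer (A : Set G) := by
  have key : ∀ g ∈ normalizer (P : Set G), ∀ a ∈ A, g * a * g⁻¹ ∈ A := by
    intro g hg a ha
    have h1 : g * a * g⁻¹ ∈ P := (mem_normalizer_iff.mp hg a).mp (hAP ha)
    rw [← h.mem_iff_of_sylow hG hU hAb hP hAP h1, conj_pow, h.elem.2 a ha]
    simp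
  intro g hg
  rw [mem_normalizer_iff]
  intro a
  refine ⟨key g hg a, fun ha => ?_⟩
  have := key g⁻¹ (inv_mem hg) _ ha
  simpa [mul_assoc] using this

theorem exists_normA_not_mem (h : Exc M p A A₀) (hG : IsMinSimpleOddOrder G) (hU : UT G)
    (hAb : ExcAbel G) : ∃ k ∈ normalizer (A : Set G), k ∉ M := by
  obtain ⟨P, hP, hAP⟩ := exists_isSylowIn_ge h.AM h.pg
  obtain ⟨g, hgP, hgM⟩ := h.exists_norm_not_mem hP
  exact ⟨g, h.normalizer_sylow_le hG hU hAb hP hAP hgP, hgM⟩

theorem le_cj_of_normA (h : Exc M p A A₀) {k : G} (hk : k ∈ normalizer (A : Set G)) :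
    A ≤ cj k M := by
  calc A = cj k A := (map_conj_eq_self_of_mem_normalizer hk).symm
    _ ≤ cj k M := cj_mono k h.AM

theorem cj_A₀_le (h : Exc M p A A₀) {k : G} (hk : k ∈ normalizer (A : Set G)) :
    cj k A₀ ≤ A := by
  calc cj k A₀ ≤ cj k A := cj_mono k h.A₀A
    _ = A := map_conj_eq_self_of_mem_normalizer hk

theorem fpf_normA (h : Exc M p A A₀) (hG : IsMinSimpleOddOrder G) (hU : UT G) (hPL : PL1 G)
    {k : G} (hk : k ∈ normalizer (A : Set G)) (hkM : k ∉ M) :
    sigmaCore M ⊓ centralizer (cj k A₀ : Set G) = ⊥ :=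
  h.fpf_cj hG hU hPL hkM (h.le_cj_of_normA hk)

theorem cent_A (h : Exc M p A A₀) (hG : IsMinSimpleOddOrder G) (hU : UT G) (hPL : PL1 G)
    (hAb : ExcAbel G) : sigmaCore M ⊓ centralizer (A : Set G) = ⊥ := by
  obtain ⟨k, hk, hkM⟩ := h.exists_normA_not_mem hG hU hAb
  rw [eq_bot_iff, ← h.fpf_normA hG hU hPL hk hkM]
  exact inf_le_inf_left _ (centralizer_le (by exact_mod_cast h.cj_A₀_le hk))

end Exc

end Cfsg.Agent.Lib.Helper31.BG11
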