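/-
Helper library (helper31): Bender–Glauberman Section 11, part c: item (e) of BG 12.5 for exceptional
maximal subgroups: `M_σ ∩ L = 1` for every maximal subgroup `L ≠ M` containing `A`.
-/
import Cfsg.Agent.Lib.Helper31.BG11b

set_option autoImplicit false
set_option linter.unusedSimpArgs false
set_option linter.unusedVariables false
set_option linter.style.haveILetI false
set_option linter.unusedSectionVars false

namespace Cfsg.Agent.Lib.Helper31.BG11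

open Subgroup Cfsg
open Cfsg.Agent.Lib
open Cfsg.Agent.Lib.Helper24 Cfsg.Agent.Lib.Helper34

universe u

variable {G : Type u} [Group G] [Finite G]

theorem cj_inf (g : G) (H K : Subgroup G) : cj g (H ⊓ K) = cj g H ⊓ cj g K := map_conj_inf g H K

theorem cj_top (g : G) : cj g (⊤ : Subgroup G) = ⊤ := map_conj_eq_self_of_mem (mem_top g)

theorem centralizer_cj (g : G) (H : Subgroup G) :
    centralizer (cj g H : Set G) = cj g (centralizer (H : Set G)) := centralizer_map_conj g H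

theorem normalizer_cj (g : G) (H : Subgroup G) :
    normalizer (cj g H : Set G) = cj g (normalizer (H : Set G)) := normalizer_map_conj g H

theorem cj_of_mem {g : G} {H : Subgroup G} (hg : g ∈ H) : cj g H = H := map_conj_eq_self_of_mem hg

theorem cj_of_mem_normalizer {g : G} {H : Subgroup G} (hg : g ∈ normalizer (H : Set G)) :
    cj g H = H := map_conj_eq_self_of_mem_normalizer hg

theorem le_normalizer_sup' {A X Y : Subgroup G} (hX : A ≤ normalizer (X : Set G))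
    (hY : A ≤ normalizer (Y : Set G)) : A ≤ normalizer ((X ⊔ Y : Subgroup G) : Set G) := by
  intro a ha
  apply mem_normalizer_of_map_conj_eq
  rw [Subgroup.map_sup, map_conj_eq_self_of_mem_normalizer (hX ha),
    map_conj_eq_self_of_mem_normalizer (hY ha)]

theorem le_normalizer_commutator_self (E : Subgroup G) : E ≤ normalizer ((⁅E, E⁆ : Subgroup G) : Set G) := by
  intro e he
  apply mem_normalizer_of_map_conj_eq
  rw [Subgroup.map_commutator, map_conj_eq_self_of_mem he]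

theorem le_centralizer_of_le_normal {D A N : Subgroup G} (hDN : D ≤ normalizer (N : Set G))
    (hAN : A ≤ N) (hAD : A ≤ normalizer (D : Set G)) (h : D ⊓ N = ⊥) :
    D ≤ centralizer (A : Set G) := by
  intro d hd
  rw [mem_centralizer_iff]
  intro a ha
  have h4 : d * a * d⁻¹ * a⁻¹ ∈ D ⊓ N := by
    refine mem_inf.mpr ⟨?_, ?_⟩
    · have : a * d⁻¹ * a⁻¹ ∈ D := (mem_normalizer_iff.mp (hAD ha) _).mp (inv_mem hd)
      have h5 := mul_mem hd this
      simpa [mul_assoc] using h5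
    · exact mul_mem ((mem_normalizer_iff.mp (hDN hd) _).mp (hAN ha)) (inv_mem (hAN ha))
  rw [h, mem_bot] at h4
  calc a * d = (d * a * d⁻¹ * a⁻¹)⁻¹ * (d * a) := by group
    _ = d * a := by rw [h4]; simp

theorem coprime_of_isPGroup {q : ℕ} [hq : Fact q.Prime] {Q : Subgroup G} (hQ : IsPGroup q Q) {n : ℕ}
    (hn : ¬ q ∣ n) : (Nat.card Q).Coprime n := by
  obtain ⟨k, hk⟩ := IsPGroup.iff_card.mp hQ
  rw [hk]
  exact Nat.Coprime.pow_left k ((Nat.Prime.coprime_iff_not_dvd hq.out).2 hn)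

theorem dvd_card_of_isPGroup_ne_bot {q : ℕ} [hq : Fact q.Prime] {Q : Subgroup G} (hQ : IsPGroup q Q)
    (h1 : Q ≠ ⊥) : q ∣ Nat.card Q := by
  obtain ⟨k, hk⟩ := IsPGroup.iff_card.mp hQ
  rw [hk]
  rcases k with _ | k
  · exfalso
    apply h1
    rw [pow_zero] at hk
    exact card_eq_one.mp hk
  · exact dvd_pow_self q (Nat.succ_ne_zero k)

/-- If a subgroup `C` of `N` contains a Sylow `s`-subgroup of `N` for every prime `s` then `C = N`. -/
theorem le_of_forall_sylow_le {N C : Subgroup G}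
    (h : ∀ s : ℕ, s.Prime → ∃ S : Subgroup G, S ≤ N ∧ ¬ s ∣ S.relIndex N ∧ S ≤ C) : N ≤ C := by
  have h0 : N ≤ C ⊓ N := by
    rw [← relIndex_eq_one]
    by_contra hne
    obtain ⟨s, hs, hsd⟩ := Nat.exists_prime_and_dvd hne
    obtain ⟨S, hSN, hSi, hSC⟩ := h s hs
    apply hSi
    rw [← relIndex_mul_relIndex S (C ⊓ N) N (le_inf hSC hSN) inf_le_right]
    exact Dvd.dvd.mul_left hsd _
  exact h0.trans inf_le_left

/-- fixed-point-free action on a product of two invariant subgroups with trivial intersection -/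
theorem sup_inf_centralizer_eq_bot {S D X : Subgroup G} (hDS : D ≤ normalizer (S : Set G))
    (hXS : X ≤ normalizer (S : Set G)) (hXD : X ≤ normalizer (D : Set G)) (hSD : S ⊓ D = ⊥)
    (hS : S ⊓ centralizer (X : Set G) = ⊥) (hD : D ⊓ centralizer (X : Set G) = ⊥) :
    (S ⊔ D) ⊓ centralizer (X : Set G) = ⊥ := by
  rw [eq_bot_iff]
  intro y hy
  obtain ⟨hy1, hy2⟩ := mem_inf.mp hy
  obtain ⟨s, hs, d, hd, rfl⟩ := (Helper22.mem_sup_of_le_normalizer hDS).mp hy1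
  have key : ∀ x ∈ X, x * s * x⁻¹ = s ∧ x * d * x⁻¹ = d := by
    intro x hx
    have h1 : x * (s * d) = (s * d) * x := mem_centralizer_iff.mp hy2 x hx
    have hs' : x * s * x⁻¹ ∈ S := (mem_normalizer_iff.mp (hXS hx) s).mp hs
    have hd' : x * d * x⁻¹ ∈ D := (mem_normalizer_iff.mp (hXD hx) d).mp hd
    have h2 : (x * s * x⁻¹) * (x * d * x⁻¹) = s * d := by
      calc (x * s * x⁻¹) * (x * d * x⁻¹) = (x * (s * d)) * x⁻¹ := by group
        _ = s * d := by rw [h1]; group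
    have h3 : s⁻¹ * (x * s * x⁻¹) ∈ S ⊓ D := by
      refine mem_inf.mpr ⟨mul_mem (inv_mem hs) hs', ?_⟩
      have : s⁻¹ * (x * s * x⁻¹) = d * (x * d * x⁻¹)⁻¹ := by
        calc s⁻¹ * (x * s * x⁻¹) = s⁻¹ * ((x * s * x⁻¹) * (x * d * x⁻¹)) * (x * d * x⁻¹)⁻¹ := by
              group
          _ = d * (x * d * x⁻¹)⁻¹ := by rw [h2]; group
      rw [this]
      exact mul_mem hd (inv_mem hd')
    rw [hSD, mem_bot] at h3
    have h4 : x * s * x⁻¹ = s := by
      calc x * s * x⁻¹ = s * (s⁻¹ * (x * s * x⁻¹)) := by group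
        _ = s := by rw [h3, mul_one]
    refine ⟨h4, ?_⟩
    rw [h4] at h2
    exact mul_left_cancel h2
  have hs1 : s ∈ S ⊓ centralizer (X : Set G) := by
    refine mem_inf.mpr ⟨hs, ?_⟩
    rw [mem_centralizer_iff]
    intro x hx
    calc x * s = (x * s * x⁻¹) * x := by group
      _ = s * x := by rw [(key x hx).1]
  have hd1 : d ∈ D ⊓ centralizer (X : Set G) := by
    refine mem_inf.mpr ⟨hd, ?_⟩
    rw [mem_centralizer_iff]
    intro x hx
    calc x * d = (x * d * x⁻¹) * x := by group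
      _ = d * x := by rw [(key x hx).2]
  rw [hS, mem_bot] at hs1
  rw [hD, mem_bot] at hd1
  rw [hs1, hd1, mul_one, mem_bot]

/-- The configuration of a counterexample to item (e). -/
structure ECfg (M : Subgroup G) (p : ℕ) (A A₀ L : Subgroup G) (q : ℕ) (Q : Subgroup G) : Prop where
  exc : Exc M p A A₀
  coatom : IsCoatom L
  ne : L ≠ M
  AL : A ≤ L
  qs : q ∈ sigma M
  syl : IsSylowIn q Q (sigmaCore M)
  ne_bot : Q ⊓ L ≠ ⊥
  norm : normalizer ((Q ⊓ L : Subgroup G) : Set G) ≤ M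

namespace ECfg

variable {M A A₀ L Q : Subgroup G} {p q : ℕ} [hp : Fact p.Prime]

theorem sylM (c : ECfg M p A A₀ L q Q) (hG : IsMinSimpleOddOrder G) (hU : UT G) :
    IsSylowIn q Q M :=
  haveI : Fact q.Prime := ⟨c.qs.1⟩
  sc_sylow hG hU c.exc.coatom c.qs c.syl

theorem M_norm (c : ECfg M p A A₀ L q Q) (hG : IsMinSimpleOddOrder G) (hU : UT G) (hPL : PL1 G) :
    M ≤ normalizer (Q : Set G) :=
  haveI : Fact q.Prime := ⟨c.qs.1⟩
  (sc_norm M).trans (normalizer_le_of_sylow_nilpotent (c.exc.nilpotent hG hU hPL) c.syl)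

theorem A_norm (c : ECfg M p A A₀ L q Q) (hG : IsMinSimpleOddOrder G) (hU : UT G) (hPL : PL1 G) :
    A ≤ normalizer ((Q ⊓ L : Subgroup G) : Set G) :=
  Helper22.le_normalizer_inf (c.exc.AM.trans (c.M_norm hG hU hPL)) (c.AL.trans le_normalizer)

theorem pg (c : ECfg M p A A₀ L q Q) : IsPGroup q (Q ⊓ L : Subgroup G) := c.syl.2.1.to_le inf_le_left

theorem le_sc' (c : ECfg M p A A₀ L q Q) : Q ⊓ L ≤ sigmaCore M := inf_le_left.trans c.syl.1

/-- (E2) -/
theorem disj (c : ECfg M p A A₀ L q Q) (hG : IsMinSimpleOddOrder G) (hU : UT G) (hPL : PL1 G)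
    {r : ℕ} (hrM : r ∈ sigma M) : r ∉ sigma L := by
  intro hrL
  obtain ⟨x, hx⟩ := sigma_disjoint hG hU c.exc.coatom c.coatom (c.exc.nilpotent hG hU hPL) hrM hrL
  have hxM : x ∉ M := by
    intro h
    apply c.ne
    rw [hx]
    exact map_conj_eq_self_of_mem h
  have h1 := c.exc.ti hG hU hPL hxM (hx ▸ c.AL)
  apply c.ne_bot
  rw [eq_bot_iff, ← h1, ← hx]
  exact le_inf c.le_sc' inf_le_right

theorem q_not_dvd (c : ECfg M p A A₀ L q Q) (hG : IsMinSimpleOddOrder G) (hU : UT G) (hPL : PL1 G) :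
    ¬ q ∣ Nat.card (sigmaCore L) :=
  fun hd => c.disj hG hU hPL c.qs (sc_primes L c.qs.1 hd)

/-- (E3) -/
theorem p_notSigma (c : ECfg M p A A₀ L q Q) (hG : IsMinSimpleOddOrder G) (hU : UT G) (hPL : PL1 G)
    (hAb : ExcAbel G) : p ∉ sigma L := by
  haveI : Fact q.Prime := ⟨c.qs.1⟩
  intro hpL
  have h1 : A ≤ sigmaCore L := le_sc hG hU c.coatom hpL c.AL c.exc.pg
  have h2 : (Q ⊓ L) ⊓ sigmaCore L = ⊥ :=
    (disjoint_of_coprime_natCard (coprime_of_isPGroup c.pg (c.q_not_dvd hG hU hPL))).eq_bot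
  have h3 := le_centralizer_of_le_normal (inf_le_right.trans (sc_norm L)) h1 (c.A_norm hG hU hPL) h2
  apply c.ne_bot
  rw [eq_bot_iff, ← c.exc.cent_A hG hU hPL hAb]
  exact le_inf c.le_sc' h3

theorem p_not_dvd (c : ECfg M p A A₀ L q Q) (hG : IsMinSimpleOddOrder G) (hU : UT G) (hPL : PL1 G)
    (hAb : ExcAbel G) : ¬ p ∣ Nat.card (sigmaCore L) :=
  fun hd => c.p_notSigma hG hU hPL hAb (sc_primes L hp.out hd)

/-- (E4') -/
theorem eq_of_le (c : ECfg M p A A₀ L q Q) (hG : IsMinSimpleOddOrder G) (hU : UT G) (hPL : PL1 G)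
    {T : Subgroup G} (hTL : T ≤ L) (hT : IsPGroup q T) (hAT : A ≤ normalizer (T : Set G))
    (hle : Q ⊓ L ≤ T) : T = Q ⊓ L := by
  haveI : Fact q.Prime := ⟨c.qs.1⟩
  have hTr := (c.exc.e2 hG hU).trans hG hPL
  obtain ⟨Q₂, hQ₂, hTQ₂⟩ := Helper23.exists_maxInvQ_ge (A := A) (q := q) (U := T) ⟨hT, hAT⟩
  have hQmax := maxInvQ_of_sylow_top (sigma_isSylowIn_top c.qs (c.sylM hG hU))
    (c.exc.AM.trans (c.M_norm hG hU hPL))
  have hne : Q ⊓ Q₂ ≠ ⊥ := by
    intro hb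
    apply c.ne_bot
    rw [eq_bot_iff, ← hb]
    exact le_inf inf_le_left (hle.trans hTQ₂)
  obtain ⟨k, hk, hkQ⟩ := Helper23.TransHyp.conj_of_inf_ne_bot hG hTr q (c.exc.not_dvd_card c.qs)
    Q Q₂ hQmax hQ₂ hne
  have hkM : k ∈ M := c.exc.cent_le (Helper23.piCoreOf_le _ _ hk)
  have h1 : Q₂ = Q := by
    rw [← hkQ]
    exact map_conj_eq_self_of_mem_normalizer (c.M_norm hG hU hPL hkM)
  exact le_antisymm (le_inf (h1 ▸ hTQ₂) hTL) hle

theorem B_coprime (c : ECfg M p A A₀ L q Q) (hG : IsMinSimpleOddOrder G) (hU : UT G) (hPL : PL1 G)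
    (hAb : ExcAbel G) :
    (Nat.card ((Q ⊓ L) ⊔ A : Subgroup G)).Coprime (Nat.card (sigmaCore L)) := by
  haveI : Fact q.Prime := ⟨c.qs.1⟩
  apply Nat.Coprime.coprime_dvd_left (Helper22.card_sup_dvd (c.A_norm hG hU hPL))
  exact Nat.Coprime.mul_left (coprime_of_isPGroup c.pg (c.q_not_dvd hG hU hPL))
    (coprime_of_isPGroup c.exc.pg (c.p_not_dvd hG hU hPL hAb))

/-- (E5') -/
theorem exists_compl (c : ECfg M p A A₀ L q Q) (hG : IsMinSimpleOddOrder G) (hU : UT G)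
    (hPL : PL1 G) (hAb : ExcAbel G) :
    ∃ E, IsComplIn E (sigmaCore L) L ∧ (Q ⊓ L) ⊔ A ≤ E ∧ E ≤ M := by
  haveI : Fact q.Prime := ⟨c.qs.1⟩
  have hAD := c.A_norm hG hU hPL
  obtain ⟨E, hE, hBE⟩ := exists_compl_ge hG hU c.coatom (sup_le inf_le_right c.AL)
    (c.B_coprime hG hU hPL hAb)
  refine ⟨E, hE, hBE, ?_⟩
  obtain ⟨k, hk, hkM⟩ := c.exc.exists_normA_not_mem hG hU hAb
  have hfpf := c.exc.fpf_normA hG hU hPL hk hkM
  have hX₁A : cj k A₀ ≤ A := c.exc.cj_A₀_le hk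
  have hX₁pg : IsPGroup p (cj k A₀) := c.exc.pg.to_le hX₁A
  have hpD : ¬ p ∣ Nat.card (Q ⊓ L : Subgroup G) :=
    Helper22.not_dvd_card_of_le c.le_sc' c.exc.not_dvd_sc
  have h1 := Helper22.commutator_sup_centralizer (cj k A₀) (Q ⊓ L) hX₁pg hpD (hX₁A.trans hAD)
  have h2 : (Q ⊓ L) ⊓ centralizer (cj k A₀ : Set G) = ⊥ := by
    rw [eq_bot_iff, ← hfpf]
    exact inf_le_inf_right _ c.le_sc'
  rw [h2, sup_bot_eq] at h1
  have h3 : Q ⊓ L ≤ ⁅E, E⁆ := by
    calc Q ⊓ L = ⁅Q ⊓ L, cj k A₀⁆ := h1.symm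
      _ ≤ ⁅E, E⁆ := commutator_mono (le_sup_left.trans hBE) ((hX₁A.trans le_sup_right).trans hBE)
  have hnil := (Cfsg.Agent.S1415.result hG L c.coatom E hE).1
  obtain ⟨T, hT, hDT⟩ := exists_isSylowIn_ge h3 c.pg
  have hET : E ≤ normalizer (T : Set G) :=
    (le_normalizer_commutator_self E).trans (normalizer_le_of_sylow_nilpotent hnil hT)
  have hTE : T ≤ E := hT.1.trans (commutator_le_self E)
  have hTeq := c.eq_of_le hG hU hPL (hTE.trans hE.1) hT.2.1 ((le_sup_right.trans hBE).trans hET) hDT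
  rw [hTeq] at hET
  exact hET.trans c.norm

/-- (E6') -/
theorem exists_S (c : ECfg M p A A₀ L q Q) (hG : IsMinSimpleOddOrder G) (hU : UT G)
    (hPL : PL1 G) (hAb : ExcAbel G) :
    ∃ (s : ℕ) (S : Subgroup G), s ∈ sigma L ∧ IsSylowIn s S (sigmaCore L) ∧
      (Q ⊓ L) ⊔ A ≤ normalizer (S : Set G) ∧
      ¬ S ≤ centralizer ((Q ⊓ L : Subgroup G) : Set G) := by
  haveI : Fact q.Prime := ⟨c.qs.1⟩
  obtain ⟨E, hE, hBE, hEM⟩ := c.exists_compl hG hU hPL hAb
  by_contra hcon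
  push Not at hcon
  have hBn : (Q ⊓ L) ⊔ A ≤ normalizer (sigmaCore L : Set G) :=
    (sup_le inf_le_right c.AL).trans (sc_norm L)
  have hne : sigmaCore L ≠ ⊤ := fun h => c.coatom.1 (top_le_iff.mp (h ▸ sc_le L))
  have hsolv : Group.IsSolvable (sigmaCore L) := MS_solvable hG hne
  have h1 : sigmaCore L ≤ centralizer ((Q ⊓ L : Subgroup G) : Set G) := by
    apply le_of_forall_sylow_le
    intro s hs
    haveI : Fact s.Prime := ⟨hs⟩
    obtain ⟨S, hSK, hSp, hSi, hBS⟩ := Helper1.exists_invariant_sylow ((Q ⊓ L) ⊔ A) (sigmaCore L) hBn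
      (c.B_coprime hG hU hPL hAb) (Or.inr hsolv) s
    refine ⟨S, hSK, hSi, ?_⟩
    by_cases hS1 : S = ⊥
    · rw [hS1]; exact bot_le
    · exact hcon s S (sc_primes L hs ((dvd_card_of_isPGroup_ne_bot hSp hS1).trans
        (card_dvd_of_le hSK))) ⟨hSK, hSp, hSi⟩ hBS
  have h2 : L ≤ M := by
    intro m hm
    obtain ⟨a, ha, b, hb, rfl⟩ := hE.2.2.2 m hm
    exact mul_mem (hEM ha) (c.norm (centralizer_le_normalizer _ (h1 hb)))
  exact c.ne (eq_of_coatom_le c.coatom c.exc.coatom.1 h2).symm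

theorem not_dvd_card_of_isPGroup_of_ne {q s : ℕ} {Q : Subgroup G} (hq : q.Prime) (hQ : IsPGroup q Q)
    (hs : s.Prime) (hne : s ≠ q) : ¬ s ∣ Nat.card Q := by
  haveI : Fact q.Prime := ⟨hq⟩
  obtain ⟨k, hk⟩ := IsPGroup.iff_card.mp hQ
  rw [hk]
  intro hd
  exact hne ((Nat.prime_dvd_prime_iff_eq hs hq).mp (hs.dvd_of_dvd_pow hd))

/-- (E7) -/
theorem S_cent_ne_bot (c : ECfg M p A A₀ L q Q) (hG : IsMinSimpleOddOrder G) (hU : UT G)
    (hPL : PL1 G) {s : ℕ} {S : Subgroup G} (hs : s ∈ sigma L) (hS : IsSylowIn s S (sigmaCore L))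
    (hBS : (Q ⊓ L) ⊔ A ≤ normalizer (S : Set G))
    (hSD : ¬ S ≤ centralizer ((Q ⊓ L : Subgroup G) : Set G)) {X : Subgroup G} (hXA : X ≤ A)
    (hX : Nat.card X = p) (hfpf : sigmaCore M ⊓ centralizer (X : Set G) = ⊥) :
    S ⊓ centralizer (X : Set G) ≠ ⊥ := by
  haveI : Fact q.Prime := ⟨c.qs.1⟩
  haveI : Fact s.Prime := ⟨hs.1⟩
  intro hb
  apply hSD
  have hsq : s ≠ q := by
    rintro rfl
    exact c.disj hG hU hPL c.qs hs
  have hDS : Q ⊓ L ≤ normalizer (S : Set G) := le_sup_left.trans hBS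
  have hXS : X ≤ normalizer (S : Set G) := (hXA.trans le_sup_right).trans hBS
  have hXD : X ≤ normalizer ((Q ⊓ L : Subgroup G) : Set G) := hXA.trans (c.A_norm hG hU hPL)
  have hcopSD : (Nat.card S).Coprime (Nat.card (Q ⊓ L : Subgroup G)) :=
    coprime_of_isPGroup hS.2.1 (not_dvd_card_of_isPGroup_of_ne c.qs.1 c.pg hs.1 hsq)
  have hSDbot : S ⊓ (Q ⊓ L) = ⊥ := (disjoint_of_coprime_natCard hcopSD).eq_bot
  have hD : (Q ⊓ L) ⊓ centralizer (X : Set G) = ⊥ := by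
    rw [eq_bot_iff, ← hfpf]
    exact inf_le_inf_right _ c.le_sc'
  have hW := sup_inf_centralizer_eq_bot hDS hXS hXD hSDbot hb hD
  have hnil : Group.IsNilpotent (S ⊔ (Q ⊓ L) : Subgroup G) :=
    nilpotent_of_fpf hp.out hX (le_normalizer_sup' hXS hXD) hW
  have hDsyl : IsSylowIn q (Q ⊓ L) (S ⊔ (Q ⊓ L)) := by
    refine ⟨le_sup_right, c.pg, ?_⟩
    intro hd
    have h2 := Helper22.card_sup_dvd hDS
    have h3 := Helper23.card_mul_relIndex (le_sup_right : Q ⊓ L ≤ S ⊔ (Q ⊓ L))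
    rw [← h3, mul_comm (Nat.card S)] at h2
    have h4 : (Q ⊓ L).relIndex (S ⊔ (Q ⊓ L)) ∣ Nat.card S :=
      Nat.dvd_of_mul_dvd_mul_left Nat.card_pos h2
    exact not_dvd_card_of_isPGroup_of_ne hs.1 hS.2.1 c.qs.1 hsq.symm (hd.trans h4)
  have h1 : S ≤ normalizer ((Q ⊓ L : Subgroup G) : Set G) :=
    le_sup_left.trans (le_normalizer.trans (normalizer_le_of_sylow_nilpotent hnil hDsyl))
  exact le_centralizer_of_normalize h1 hDS hSDbot

theorem centralizer_ne_top (hG : IsMinSimpleOddOrder G) {X : Subgroup G} (h1 : X ≠ ⊥) (h2 : X ≠ ⊤) :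
    centralizer (X : Set G) ≠ ⊤ := by
  intro h
  apply MS_normalizer_ne_top hG h1 h2
  rw [eq_top_iff, ← h]
  exact centralizer_le_normalizer _

theorem cj_ne_bot {X : Subgroup G} (g : G) (h : X ≠ ⊥) : cj g X ≠ ⊥ := by
  intro hb
  exact h ((map_eq_bot_iff_of_injective _ (MulAut.conj g).injective).mp hb)

theorem ne_bot_of_card_prime {X : Subgroup G} {p : ℕ} (hp : p.Prime) (hX : Nat.card X = p) :
    X ≠ ⊥ := by
  rintro rfl
  rw [card_bot] at hX
  exact hp.one_lt.ne hX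

/-- (E8): the configuration is contradictory. -/
theorem false (c : ECfg M p A A₀ L q Q) (hG : IsMinSimpleOddOrder G) (hU : UT G)
    (hPL : PL1 G) (hAb : ExcAbel G) : False := by
  haveI : Fact q.Prime := ⟨c.qs.1⟩
  obtain ⟨s, S, hs, hS, hBS, hSD⟩ := c.exists_S hG hU hPL hAb
  haveI : Fact s.Prime := ⟨hs.1⟩
  obtain ⟨k, hk, hkM⟩ := c.exc.exists_normA_not_mem hG hU hAb
  have hk' : k⁻¹ ∈ normalizer (A : Set G) := inv_mem hk
  have hk'M : k⁻¹ ∉ M := fun h => hkM (by simpa using inv_mem h)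
  have hkk : k⁻¹ * k⁻¹ ∈ normalizer (A : Set G) := mul_mem hk' hk'
  have hkkM : k⁻¹ * k⁻¹ ∉ M := fun h => hk'M (mem_of_sq_mem hG h)
  have hXA : cj k⁻¹ A₀ ≤ A := c.exc.cj_A₀_le hk'
  have hXc : Nat.card (cj k⁻¹ A₀) = p := by rw [card_map_conj]; exact c.exc.card₀
  have hXne := c.S_cent_ne_bot hG hU hPL hs hS hBS hSD hXA hXc (c.exc.fpf_normA hG hU hPL hk' hk'M)
  have hX'ne := c.S_cent_ne_bot hG hU hPL hs hS hBS hSD (c.exc.cj_A₀_le hkk)
    (by rw [card_map_conj]; exact c.exc.card₀) (c.exc.fpf_normA hG hU hPL hkk hkkM)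
  have hSL : IsSylowIn s S L := sc_sylow hG hU c.coatom hs hS
  have hStop := sigma_isSylowIn_top hs hSL
  have hAS : A ≤ normalizer (S : Set G) := le_sup_right.trans hBS
  have m₁ := maxInvQ_of_sylow_top hStop hAS
  have hAcj : ∀ {n : G} {R : Subgroup G}, n ∈ normalizer (A : Set G) → A ≤ normalizer (R : Set G) →
      A ≤ normalizer (cj n R : Set G) := by
    intro n R hn hR
    rw [normalizer_map_conj]
    calc A = cj n A := (map_conj_eq_self_of_mem_normalizer hn).symm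
      _ ≤ _ := cj_mono n hR
  have hStop' : IsSylowIn s (cj k S) ⊤ := by
    have h1 : IsSylowIn s (cj k S) (cj k ⊤) := hStop.map_conj k
    rwa [cj_top] at h1
  have m₂ := maxInvQ_of_sylow_top hStop' (hAcj hk hAS)
  have hXtop : cj k⁻¹ A₀ ≠ ⊤ := fun h => c.exc.coatom.1 (top_le_iff.mp (h ▸ hXA.trans c.exc.AM))
  have hH : centralizer (cj k⁻¹ A₀ : Set G) ≠ ⊤ :=
    centralizer_ne_top hG (ne_bot_of_card_prime hp.out hXc) hXtop
  have hAH : A ≤ centralizer (cj k⁻¹ A₀ : Set G) :=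
    (c.exc.e2 hG hU).comm.trans (centralizer_le (by exact_mod_cast hXA))
  have h₁ : centralizer (cj k⁻¹ A₀ : Set G) ⊓ S ≠ ⊥ := by rwa [inf_comm]
  have h₂ : centralizer (cj k⁻¹ A₀ : Set G) ⊓ cj k S ≠ ⊥ := by
    have e1 : cj k (cj (k⁻¹ * k⁻¹) A₀) = cj k⁻¹ A₀ := by
      rw [cj_cj]
      congr 2
      group
    have e2 : cj k (S ⊓ centralizer (cj (k⁻¹ * k⁻¹) A₀ : Set G)) =
        cj k S ⊓ centralizer (cj k⁻¹ A₀ : Set G) := by
      rw [cj_inf, ← centralizer_cj, e1]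
    rw [inf_comm, ← e2]
    exact cj_ne_bot k hX'ne
  have hsA : ¬ s ∣ Nat.card A := by
    rw [c.exc.card]
    intro hd
    have : s = p := (Nat.prime_dvd_prime_iff_eq hs.1 hp.out).mp (hs.1.dvd_of_dvd_pow hd)
    exact c.p_notSigma hG hU hPL hAb (this ▸ hs)
  have hTr := (c.exc.e2 hG hU).trans hG hPL
  obtain ⟨c₀, hc₀, hcS⟩ := Helper23.TransHyp.conj_of_common_overgroup hG hTr s hsA S (cj k S) m₁ m₂ _
    hH hAH h₁ h₂
  have hc₀C : c₀ ∈ centralizer (A : Set G) := Helper23.piCoreOf_le _ _ hc₀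
  have hnS : c₀⁻¹ * k ∈ normalizer (S : Set G) := by
    apply mem_normalizer_of_map_conj_eq
    have hcS' : cj c₀ S = cj k S := hcS
    calc cj (c₀⁻¹ * k) S = cj c₀⁻¹ (cj k S) := (cj_cj _ _ _).symm
      _ = cj c₀⁻¹ (cj c₀ S) := by rw [hcS']
      _ = S := cj_inv_cj _ _
  have hnL : c₀⁻¹ * k ∈ L := sigma_normalizer_le hs hSL hnS
  have hnA : c₀⁻¹ * k ∈ normalizer (A : Set G) :=
    mul_mem (inv_mem (centralizer_le_normalizer _ hc₀C)) hk
  have hnM : c₀⁻¹ * k ∉ M := by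
    intro h
    apply hkM
    have := mul_mem (c.exc.cent_le hc₀C) h
    simpa using this
  have hAQ : A ≤ normalizer (Q : Set G) := c.exc.AM.trans (c.M_norm hG hU hPL)
  refine c.exc.no_common hG hU hPL hnM c.qs (c.sylM hG hU) ((c.sylM hG hU).map_conj _) hAQ
    (hAcj hnA hAQ) c.coatom.1 c.AL ?_ ?_
  · rw [inf_comm]
    exact c.ne_bot
  · have e3 : cj (c₀⁻¹ * k) (Q ⊓ L) = cj (c₀⁻¹ * k) Q ⊓ L := by
      rw [cj_inf, cj_of_mem hnL]
    rw [inf_comm, ← e3]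
    exact cj_ne_bot _ c.ne_bot

end ECfg

/-- **Item (e)** for exceptional maximal subgroups. -/
theorem Exc.inter_eq_bot {M A A₀ : Subgroup G} {p : ℕ} [hp : Fact p.Prime] (h : Exc M p A A₀)
    (hG : IsMinSimpleOddOrder G) (hU : UT G) (hPL : PL1 G) (hAb : ExcAbel G) {L : Subgroup G}
    (hL : IsCoatom L) (hne : L ≠ M) (hAL : A ≤ L) : sigmaCore M ⊓ L = ⊥ := by
  by_contra hD0
  let S : Set (Subgroup G) := {L | IsCoatom L ∧ L ≠ M ∧ A ≤ L ∧ sigmaCore M ⊓ L ≠ ⊥}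
  obtain ⟨L', hL'S, hmax⟩ := Set.exists_max_image S
    (fun L => Nat.card (sigmaCore M ⊓ L : Subgroup G)) (Set.toFinite S) ⟨L, hL, hne, hAL, hD0⟩
  obtain ⟨hL', hne', hAL', hD⟩ := hL'S
  have hcard : Nat.card (sigmaCore M ⊓ L' : Subgroup G) ≠ 1 := fun h1 => hD (card_eq_one.mp h1)
  obtain ⟨q, hq, hqd⟩ := Nat.exists_prime_and_dvd hcard
  haveI : Fact q.Prime := ⟨hq⟩
  have hqs : q ∈ sigma M := sc_primes M hq (hqd.trans (card_dvd_of_le inf_le_left))
  obtain ⟨Q, hQ, -⟩ := exists_isSylowIn_ge (bot_le : (⊥ : Subgroup G) ≤ sigmaCore M)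
    (IsPGroup.of_bot (p := q))
  have hnil := h.nilpotent hG hU hPL
  have hKQ : sigmaCore M ≤ normalizer (Q : Set G) :=
    le_normalizer.trans (normalizer_le_of_sylow_nilpotent hnil hQ)
  have hMQ : M ≤ normalizer (Q : Set G) :=
    (sc_norm M).trans (normalizer_le_of_sylow_nilpotent hnil hQ)
  obtain ⟨Dq, hDq, -⟩ := exists_isSylowIn_ge (bot_le : (⊥ : Subgroup G) ≤ sigmaCore M ⊓ L')
    (IsPGroup.of_bot (p := q))
  have hDq1 : Dq ≠ ⊥ := sylow_ne_bot_of_dvd hDq hqd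
  have hDqQ : Dq ≤ Q := le_of_normal_of_not_dvd hQ.1 hKQ hQ.2.2 (hDq.1.trans inf_le_left) hDq.2.1
  have hne_bot : Q ⊓ L' ≠ ⊥ := by
    intro hb
    apply hDq1
    rw [eq_bot_iff, ← hb]
    exact le_inf hDqQ (hDq.1.trans inf_le_right)
  have hnorm : normalizer ((Q ⊓ L' : Subgroup G) : Set G) ≤ M := by
    by_cases hDK : sigmaCore M ⊓ L' = sigmaCore M
    · have h1 : Q ⊓ L' = Q := inf_eq_left.mpr (hQ.1.trans (inf_eq_left.mp hDK))
      rw [h1]
      exact sigma_normalizer_le hqs (sc_sylow hG hU h.coatom hqs hQ)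
    · have hlt : sigmaCore M ⊓ L' < sigmaCore M := lt_of_le_of_ne inf_le_left hDK
      obtain ⟨x, hxK, hxN, hxD⟩ := exists_mem_normalizer_not_mem hnil hlt
      have hQtop : Q ⊓ L' ≠ ⊤ := fun e => hL'.1 (top_le_iff.mp (e ▸ inf_le_right))
      have hNtop : normalizer ((Q ⊓ L' : Subgroup G) : Set G) ≠ ⊤ :=
        MS_normalizer_ne_top hG hne_bot hQtop
      obtain ⟨L'', hL'', hNL''⟩ := exists_coatom_ge hNtop
      by_contra hnot
      have hne'' : L'' ≠ M := by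
        rintro rfl
        exact hnot hNL''
      have hAN : A ≤ normalizer ((Q ⊓ L' : Subgroup G) : Set G) :=
        Helper22.le_normalizer_inf (h.AM.trans hMQ) (hAL'.trans le_normalizer)
      have hQD : Q ⊓ L' = Q ⊓ (sigmaCore M ⊓ L') := by
        rw [← inf_assoc, inf_eq_left.mpr hQ.1]
      have hND : sigmaCore M ⊓ normalizer ((sigmaCore M ⊓ L' : Subgroup G) : Set G) ≤
          normalizer ((Q ⊓ L' : Subgroup G) : Set G) := by
        rw [hQD]
        exact Helper22.le_normalizer_inf (inf_le_left.trans hKQ) inf_le_right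
      have hDle : sigmaCore M ⊓ L' ≤ sigmaCore M ⊓ L'' :=
        le_inf inf_le_left ((le_inf inf_le_left le_normalizer).trans (hND.trans hNL''))
      have hx : x ∈ sigmaCore M ⊓ L'' := ⟨hxK, hNL'' (hND ⟨hxK, hxN⟩)⟩
      have hlt2 : sigmaCore M ⊓ L' < sigmaCore M ⊓ L'' :=
        lt_of_le_of_ne hDle (fun e => hxD (e ▸ hx))
      have hmem : L'' ∈ S := ⟨hL'', hne'', hAN.trans hNL'', ne_bot_of_le_ne_bot hD hDle⟩
      have h5 := hmax L'' hmem
      exact absurd (Helper1.card_lt_of_lt hlt2) (not_lt.mpr h5)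
  exact ECfg.false ⟨h, hL', hne', hAL', hqs, hQ, hne_bot, hnorm⟩ hG hU hPL hAb

/-- BG 11.1-11.6 and item (e), from 11.5. -/
theorem excThm' (hG : IsMinSimpleOddOrder G) (hU : UT G) (hPL : PL1 G) (hAb : ExcAbel G) :
    ExcThm' G := by
  intro M p _ A A₀ h
  refine ⟨h.nilpotent hG hU hPL, ?_, h.cent_A hG hU hPL hAb,
    fun L hL hne hAL => h.inter_eq_bot hG hU hPL hAb hL hne hAL, ?_⟩
  · intro P
    refine ⟨hAb M p A A₀ h P, fun hAP =>
      ⟨fun x hx => h.mem_iff_of_sylow hG hU hAb (Sylow.isSylowIn_map P) hAP hx, ?_⟩⟩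
    intro hle
    obtain ⟨g, hg, hgM⟩ := h.exists_norm_not_mem (Sylow.isSylowIn_map P)
    exact hgM (hle hg)
  · obtain ⟨k, hk, hkM⟩ := h.exists_normA_not_mem hG hU hAb
    exact ⟨cj k A₀, h.cj_A₀_le hk, by rw [card_map_conj]; exact h.card₀,
      h.fpf_normA hG hU hPL hk hkM⟩

end Cfsg.Agent.Lib.Helper31.BG11
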