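/-
Helper library (helper31): BG Corollary 12.6 (S1418) from S1416(a) and the conclusion of S1417.
-/
import Cfsg.Agent.Lib.Helper31.BG11c

set_option autoImplicit false
set_option linter.unusedSimpArgs false
set_option linter.unusedVariables false
set_option linter.style.haveILetI false
set_option linter.unusedSectionVars false

namespace Cfsg.Agent.Lib.Helper31.BG11

open Subgroup Cfsg
open Cfsg.Agent.Lib
open Cfsg.Agent.Lib.Helper24 Cfsg.Agent.Lib.Helper34

universe u

variable {G : Type u} [Group G] [Finite G]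

theorem tau2_compl (hG : IsMinSimpleOddOrder G) {M E A : Subgroup G} {p : ℕ} [hp : Fact p.Prime]
    (hM : IsCoatom M) (hE : IsComplIn E (sigmaCore M) M)
    (hA : A ≤ E ∧ IsElementaryAbelian p A ∧ Nat.card A = p ^ 2)
    (h16 : centralizer (A : Set G) ≤ M) (hC : ExcConcl M p A) :
    (E ≤ normalizer (A : Set G) ∧ ∀ X : Subgroup G, X ≤ E → Nat.card X = p → X ≤ A) ∧
      (centralizer (A : Set G) ≤ M ⊓ normalizer (A : Set G) ∧ M ⊓ normalizer (A : Set G) = E ∧
        ¬ normalizer (A : Set G) ≤ M) ∧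
      ∀ X : Subgroup G, X ≤ A → Nat.card X = p → sigmaCore M ⊓ centralizer (X : Set G) ≠ ⊥ →
        (centralizer (X : Set G) ≤ M ∧
          ∀ L : Subgroup G, IsCoatom L → centralizer (X : Set G) ≤ L → L = M) := by
  obtain ⟨hAE, hAel, hAc⟩ := hA
  obtain ⟨-, hb, hc, hd, he, -⟩ := hC
  obtain ⟨hEM, hKM, hEK, hfac⟩ := hE
  have hAM : A ≤ M := hAE.trans hEM
  have hApg : IsPGroup p A := isPGroup_of_exponent hAel.2
  have hAK : A ≤ normalizer (sigmaCore M : Set G) := hAM.trans (sc_norm M)
  -- Sylow subgroups in ambient form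
  have hbS : ∀ P : Subgroup G, IsSylowIn p P M → A ≤ P →
      (∀ x ∈ P, x ^ p = 1 ↔ x ∈ A) ∧ ¬ normalizer (P : Set G) ≤ M := by
    intro P hP hAP
    have h2 : ((hP.toSylow : Subgroup M)).map M.subtype = P := by
      rw [hP.coe_toSylow, subgroupOf_map_subtype, inf_eq_left.2 hP.1]
    have h3 := (hb hP.toSylow).2
    rw [h2] at h3
    exact h3 hAP
  -- `E ∩ KA = A`
  have hinf : E ⊓ (sigmaCore M ⊔ A) = A := by
    apply le_antisymm
    · intro y hy
      obtain ⟨hy1, hy2⟩ := mem_inf.mp hy
      obtain ⟨k, hk, a, ha, rfl⟩ := (Helper22.mem_sup_of_le_normalizer hAK).mp hy2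
      have h1 : k ∈ E ⊓ sigmaCore M := by
        refine mem_inf.mpr ⟨?_, hk⟩
        have := mul_mem hy1 (inv_mem (hAE ha))
        simpa using this
      rw [hEK, mem_bot] at h1
      rw [h1, one_mul]
      exact ha
    · exact le_inf hAE le_sup_right
  have hEA : E ≤ normalizer (A : Set G) := by
    have := Helper22.le_normalizer_inf (le_normalizer : E ≤ normalizer (E : Set G)) (hEM.trans hc)
    rwa [hinf] at this
  have hAKbot : A ⊓ sigmaCore M = ⊥ := by
    rw [eq_bot_iff, ← hEK]
    exact inf_le_inf_right _ hAE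
  refine ⟨⟨hEA, ?_⟩, ⟨le_inf h16 (centralizer_le_normalizer _), ?_, ?_⟩, ?_⟩
  · intro X hXE hX
    have hXpg : IsPGroup p X := IsPGroup.of_card (n := 1) (by rw [hX, pow_one])
    have hXA : IsPGroup p (A ⊔ X : Subgroup G) := Helper22.isPGroup_sup (hXE.trans hEA) hApg hXpg
    obtain ⟨P, hP, hle⟩ := exists_isSylowIn_ge (sup_le hAM (hXE.trans hEM)) hXA
    intro x hx
    rw [← (hbS P hP (le_sup_left.trans hle)).1 x (hle (mem_sup_right hx))]
    have := pow_card_eq_one' (G := X) (x := ⟨x, hx⟩)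
    rw [hX] at this
    exact congrArg Subtype.val this
  · apply le_antisymm
    · intro m hm
      obtain ⟨hmM, hmN⟩ := mem_inf.mp hm
      obtain ⟨e, he', k, hk, rfl⟩ := hfac m hmM
      have hkN : k ∈ normalizer (A : Set G) := by
        have := mul_mem (inv_mem (hEA he')) hmN
        simpa using this
      have hkC : k ∈ sigmaCore M ⊓ centralizer (A : Set G) := by
        refine mem_inf.mpr ⟨hk, ?_⟩
        rw [mem_centralizer_iff]
        intro a ha
        have h4 : k * a * k⁻¹ * a⁻¹ ∈ A ⊓ sigmaCore M := by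
          refine mem_inf.mpr ⟨?_, ?_⟩
          · exact mul_mem ((mem_normalizer_iff.mp hkN a).mp ha) (inv_mem ha)
          · have : a * k⁻¹ * a⁻¹ ∈ sigmaCore M := (mem_normalizer_iff.mp (hAK ha) _).mp (inv_mem hk)
            have h5 := mul_mem hk this
            simpa [mul_assoc] using h5
        rw [hAKbot, mem_bot] at h4
        calc a * k = (k * a * k⁻¹ * a⁻¹)⁻¹ * (k * a) := by group
          _ = k * a := by rw [h4]; simp
      rw [hd, mem_bot] at hkC
      rw [hkC, mul_one]
      exact he'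
    · exact le_inf hEM hEA
  · obtain ⟨P, hP, hAP⟩ := exists_isSylowIn_ge hAM hApg
    obtain ⟨h1, h2⟩ := hbS P hP hAP
    intro hle
    apply h2
    refine le_trans ?_ hle
    have key : ∀ g ∈ normalizer (P : Set G), ∀ a ∈ A, g * a * g⁻¹ ∈ A := by
      intro g hg a ha
      have h3 : g * a * g⁻¹ ∈ P := (mem_normalizer_iff.mp hg a).mp (hAP ha)
      rw [← h1 _ h3, conj_pow, hAel.2 a ha]
      simp
    intro g hg
    rw [mem_normalizer_iff]
    intro a
    refine ⟨key g hg a, fun ha => ?_⟩
    have := key g⁻¹ (inv_mem hg) _ ha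
    simpa [mul_assoc] using this
  · intro X hXA hX hne
    have hAX : A ≤ centralizer (X : Set G) :=
      (le_centralizer_iff_isMulCommutative.mpr hAel.1).trans (centralizer_le (by exact_mod_cast hXA))
    have huniq : ∀ L : Subgroup G, IsCoatom L → centralizer (X : Set G) ≤ L → L = M := by
      intro L hL hle
      by_contra hLM
      apply hne
      rw [eq_bot_iff, ← he L hL hLM (hAX.trans hle)]
      exact inf_le_inf_left _ hle
    have hXtop : X ≠ ⊤ := fun h => hM.1 (top_le_iff.mp (h ▸ hXA.trans hAM))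
    obtain ⟨L, hL, hle⟩ := exists_coatom_ge
      (ECfg.centralizer_ne_top hG (ECfg.ne_bot_of_card_prime hp.out hX) hXtop)
    exact ⟨huniq L hL hle ▸ hle, huniq⟩

end Cfsg.Agent.Lib.Helper31.BG11
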